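import Mathlib

/-! Jordan's original counting argument, part 1: unit-fraction equations and fans. -/

set_option autoImplicit false
set_option linter.unusedSectionVars false

namespace CfsgLib.BF

open Subgroup

theorem egypt_zero (r : ℚ) (ω : ℕ) (hω : 0 < ω) (h : 1 / (ω : ℚ) + r = 0) : ω ≤ ⌈-1 / r⌉₊ := by
  have hω' : (0 : ℚ) < ω := by exact_mod_cast hω
  have hr : r = -(1 / (ω : ℚ)) := by linarith
  have : -1 / r = ω := by rw [hr]; field_simp
  rw [this, Nat.ceil_natCast]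

theorem egypt (k : ℕ) : ∀ r : ℚ, ∃ D : ℕ, ∀ (s : Multiset ℕ) (ω : ℕ), s.card ≤ k → 0 < ω →
    (∀ w ∈ s, 0 < w ∧ w < ω) → 1 / (ω : ℚ) + r = (s.map fun w : ℕ => 1 / (w : ℚ)).sum → ω ≤ D := by
  induction k with
  | zero =>
    intro r
    refine ⟨⌈-1 / r⌉₊, fun s ω hs hω _ h => ?_⟩
    have : s = 0 := Multiset.card_eq_zero.mp (Nat.le_zero.mp hs)
    subst this
    exact egypt_zero r ω hω (by simpa using h)
  | succ k ih =>
    intro r
    choose D hD using ih
    refine ⟨max (D r) ((Finset.range (⌈((k : ℚ) + 1) / r⌉₊ + 1)).sup fun x : ℕ => D (r - 1 / (x : ℚ))),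
      fun s ω hs hω hw h => ?_⟩
    by_cases hs0 : s = 0
    · subst hs0
      exact le_max_of_le_left (hD r 0 ω (by simp) hω hw h)
    classical
    obtain ⟨w, hws, hmin⟩ := Finset.exists_min_image s.toFinset id (Multiset.toFinset_nonempty.mpr hs0)
    rw [Multiset.mem_toFinset] at hws
    obtain ⟨t, rfl⟩ := Multiset.exists_cons_of_mem hws
    have hw0 := hw w hws
    have hwq : (0 : ℚ) < w := by exact_mod_cast hw0.1
    have hωq : (0 : ℚ) < ω := by exact_mod_cast hω
    have hnn : 0 ≤ (t.map fun w : ℕ => 1 / (w : ℚ)).sum :=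
      Multiset.sum_nonneg fun x hx => by
        obtain ⟨y, -, rfl⟩ := Multiset.mem_map.mp hx
        positivity
    have hle : (t.map fun w : ℕ => 1 / (w : ℚ)).sum ≤ k * (1 / (w : ℚ)) := by
      have h1 := Multiset.sum_le_card_nsmul (t.map fun w : ℕ => 1 / (w : ℚ)) (1 / (w : ℚ)) (fun x hx => by
        obtain ⟨y, hy, rfl⟩ := Multiset.mem_map.mp hx
        have hwy : w ≤ y := hmin y (Multiset.mem_toFinset.mpr (Multiset.mem_cons_of_mem hy))
        exact one_div_le_one_div_of_le hwq (by exact_mod_cast hwy))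
      rw [Multiset.card_map, nsmul_eq_mul] at h1
      have h2 : (t.card : ℚ) ≤ k := by
        have : t.card + 1 ≤ k + 1 := by simpa using hs
        exact_mod_cast (by omega : t.card ≤ k)
      exact h1.trans (mul_le_mul_of_nonneg_right h2 (by positivity))
    rw [Multiset.map_cons, Multiset.sum_cons] at h
    have hlt : 1 / (ω : ℚ) < 1 / (w : ℚ) := one_div_lt_one_div_of_lt hwq (by exact_mod_cast hw0.2)
    have hr : 0 < r := by linarith
    have hpos : 0 < 1 / (ω : ℚ) := by positivity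
    have h3 : r ≤ ((k : ℚ) + 1) * (1 / (w : ℚ)) := by linarith
    have h4 : (w : ℚ) ≤ ((k : ℚ) + 1) / r := by
      rw [le_div_iff₀ hr]
      have := mul_le_mul_of_nonneg_left h3 hwq.le
      rwa [mul_one_div, mul_div_cancel₀ _ hwq.ne'] at this
    have h5 : w ≤ ⌈((k : ℚ) + 1) / r⌉₊ := by
      have := h4.trans (Nat.le_ceil _)
      exact_mod_cast this
    refine le_max_of_le_right (le_trans ?_ (Finset.le_sup (f := fun x : ℕ => D (r - 1 / (x : ℚ)))
      (Finset.mem_range.mpr (Nat.lt_succ_of_le h5))))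
    refine hD _ t ω (by simpa using hs) hω (fun x hx => hw x (Multiset.mem_cons_of_mem hx)) ?_
    linarith

theorem egypt2 (B k l : ℕ) : ∀ r : ℚ, ∃ D : ℕ, ∀ (t s : Multiset ℕ) (ω : ℕ), t.card ≤ l →
    (∀ b ∈ t, b ≤ B) → s.card ≤ k → 0 < ω → (∀ w ∈ s, 0 < w ∧ w < ω) →
    1 / (ω : ℚ) + r + (t.map fun w : ℕ => 1 / (w : ℚ)).sum = (s.map fun w : ℕ => 1 / (w : ℚ)).sum →
    ω ≤ D := by
  induction l with
  | zero =>
    intro r
    obtain ⟨D, hD⟩ := egypt k r
    refine ⟨D, fun t s ω ht _ hs hω hw h => ?_⟩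
    have : t = 0 := Multiset.card_eq_zero.mp (Nat.le_zero.mp ht)
    subst this
    exact hD s ω hs hω hw (by simpa using h)
  | succ l ih =>
    intro r
    choose D hD using ih
    refine ⟨max (D r) ((Finset.range (B + 1)).sup fun x : ℕ => D (r + 1 / (x : ℚ))),
      fun t s ω ht hb hs hω hw h => ?_⟩
    by_cases ht0 : t = 0
    · subst ht0
      exact le_max_of_le_left (hD r 0 s ω (by simp) hb hs hω hw h)
    obtain ⟨b, hbt⟩ := Multiset.exists_mem_of_ne_zero ht0
    obtain ⟨t, rfl⟩ := Multiset.exists_cons_of_mem hbt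
    refine le_max_of_le_right (le_trans ?_ (Finset.le_sup (f := fun x : ℕ => D (r + 1 / (x : ℚ)))
      (Finset.mem_range.mpr (Nat.lt_succ_of_le (hb b hbt)))))
    refine hD _ t s ω (by simpa using ht) (fun x hx => hb x (Multiset.mem_cons_of_mem hx)) hs hω hw ?_
    rw [Multiset.map_cons, Multiset.sum_cons] at h
    linarith

variable {G : Type*} [Group G] [Finite G]

/-- An abelian subgroup whose subgroups of index at most `N` have the same centralizer. -/
def IsFan (N : ℕ) (F : Subgroup G) : Prop :=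
  F ≤ centralizer (F : Set G) ∧
    ∀ F₀ : Subgroup G, F₀ ≤ F → F₀.relIndex F ≤ N → centralizer (F₀ : Set G) ≤ centralizer (F : Set G)

theorem relIndex_ne_zero' (A H : Subgroup G) : A.relIndex H ≠ 0 := index_ne_zero_of_finite

theorem IsFan.cent_inf {N : ℕ} {F A H : Subgroup G} (hF : IsFan N F) (hFH : F ≤ H)
    (hA : A.relIndex H ≤ N) : centralizer ((A ⊓ F : Subgroup G) : Set G) ≤ centralizer (F : Set G) := by
  refine hF.2 _ inf_le_right ?_
  rw [inf_relIndex_right]
  exact (relIndex_le_of_le_right hFH (relIndex_ne_zero' _ _)).trans hA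

theorem fan_comm {N : ℕ} {F₁ F₂ A H : Subgroup G} (h₁ : IsFan N F₁) (h₂ : IsFan N F₂) (hF₁ : F₁ ≤ H)
    (hF₂ : F₂ ≤ H) (hA : A.relIndex H ≤ N) (hab : A ≤ centralizer (A : Set G)) :
    F₁ ≤ centralizer (F₂ : Set G) := by
  have h1 : A ⊓ F₁ ≤ centralizer (F₂ : Set G) :=
    (inf_le_left.trans (hab.trans (centralizer_le (SetLike.coe_subset_coe.mpr inf_le_left)))).trans
      (h₂.cent_inf hF₂ hA)
  exact le_centralizer_iff.mp ((le_centralizer_iff.mp h1).trans (h₁.cent_inf hF₁ hA))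

theorem isFan_sSup {N : ℕ} (S : Set (Subgroup G)) (hS : ∀ F ∈ S, IsFan N F)
    (hc : ∀ F₁ ∈ S, ∀ F₂ ∈ S, F₁ ≤ centralizer (F₂ : Set G)) : IsFan N (sSup S) := by
  refine ⟨sSup_le fun F hF => le_centralizer_iff.mp (sSup_le fun F' hF' => hc F' hF' F hF), ?_⟩
  intro F₀ _ hN
  refine le_centralizer_iff.mp (sSup_le fun F hF => le_centralizer_iff.mp ?_)
  exact (centralizer_le (SetLike.coe_subset_coe.mpr inf_le_left)).trans
    ((hS F hF).cent_inf (le_sSup hF) hN)

theorem isFan_center (N : ℕ) : IsFan N (center G) := by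
  have : centralizer ((center G : Subgroup G) : Set G) = ⊤ := by
    rw [eq_top_iff]
    intro g _
    rw [mem_centralizer_iff]
    intro z hz
    exact (mem_center_iff.mp hz g).symm
  exact ⟨this ▸ le_top, fun _ _ _ => this ▸ le_top⟩

theorem exists_fan {N c : ℕ} (d : Subgroup G → ℕ) (hdc : ∀ A, d A ≤ c)
    (hd : ∀ A₁ A : Subgroup G, A₁ ≤ A → ¬ centralizer (A₁ : Set G) ≤ centralizer (A : Set G) →
      d A < d A₁) (hN : 1 ≤ N) :
    ∀ (k : ℕ) (A : Subgroup G), c ≤ d A + k → A ≤ centralizer (A : Set G) →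
      ∃ F : Subgroup G, IsFan N F ∧ F ≤ A ∧ F.relIndex A ≤ N ^ k := by
  intro k
  induction k with
  | zero =>
    intro A hA hab
    refine ⟨A, ⟨hab, fun F₀ hF₀ _ => ?_⟩, le_rfl, by simp⟩
    by_contra hn
    have := hd F₀ A hF₀ hn
    have := hdc F₀
    omega
  | succ k ih =>
    intro A hA hab
    by_cases hF : IsFan N A
    · exact ⟨A, hF, le_rfl, by simpa using Nat.one_le_pow _ _ hN⟩
    simp only [IsFan, hab, true_and, not_forall] at hF
    obtain ⟨A₁, h₁, hi, hn⟩ := hF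
    have := hd A₁ A h₁ hn
    obtain ⟨F, hF, hFA, hFi⟩ := ih A₁ (by omega)
      (h₁.trans (hab.trans (centralizer_le (SetLike.coe_subset_coe.mpr h₁))))
    refine ⟨F, hF, hFA.trans h₁, ?_⟩
    rw [← relIndex_mul_relIndex F A₁ A hFA h₁, pow_succ]
    exact Nat.mul_le_mul hFi hi

theorem mem_map_conj {h x : G} {F : Subgroup G} :
    x ∈ F.map (MulAut.conj h).toMonoidHom ↔ h⁻¹ * x * h ∈ F := by
  constructor
  · rintro ⟨y, hy, rfl⟩
    simpa [mul_assoc] using hy
  · intro hx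
    exact ⟨_, hx, by simp [mul_assoc]⟩

theorem mem_cent_map_conj {h x : G} {F : Subgroup G} :
    x ∈ centralizer ((F.map (MulAut.conj h).toMonoidHom : Subgroup G) : Set G) ↔
      h⁻¹ * x * h ∈ centralizer (F : Set G) := by
  simp only [mem_centralizer_iff, SetLike.mem_coe]
  constructor
  · intro H y hy
    have := H (h * y * h⁻¹) (mem_map_conj.mpr (by simpa [mul_assoc] using hy))
    calc y * (h⁻¹ * x * h) = h⁻¹ * (h * y * h⁻¹ * x) * h := by group
      _ = h⁻¹ * (x * (h * y * h⁻¹)) * h := by rw [this]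
      _ = _ := by group
  · intro H y hy
    have := H _ (mem_map_conj.mp hy)
    calc y * x = h * (h⁻¹ * y * h * (h⁻¹ * x * h)) * h⁻¹ := by group
      _ = h * (h⁻¹ * x * h * (h⁻¹ * y * h)) * h⁻¹ := by rw [this]
      _ = _ := by group

theorem IsFan.conj {N : ℕ} {F : Subgroup G} (hF : IsFan N F) (h : G) :
    IsFan N (F.map (MulAut.conj h).toMonoidHom) := by
  refine ⟨fun x hx => mem_cent_map_conj.mpr (hF.1 (mem_map_conj.mp hx)), fun F₀ h₀ hi x hx => ?_⟩
  obtain ⟨F₁, rfl⟩ : ∃ F₁ : Subgroup G, F₀ = F₁.map (MulAut.conj h).toMonoidHom :=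
    ⟨F₀.map (MulAut.conj h⁻¹).toMonoidHom, by
      ext y; simp only [mem_map_conj]; simp [mul_assoc]⟩
  have hinj : Function.Injective (MulAut.conj h).toMonoidHom := (MulAut.conj h).injective
  rw [relIndex_map_map_of_injective _ _ hinj] at hi
  exact mem_cent_map_conj.mpr (hF.2 F₁ ((map_le_map_iff_of_injective hinj).mp h₀) hi
    (mem_cent_map_conj.mp hx))

/-- The join of all fans centralizing `g`. -/
def fanOf (N : ℕ) (g : G) : Subgroup G :=
  sSup {F : Subgroup G | IsFan N F ∧ F ≤ centralizer ({g} : Set G)}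

theorem le_fanOf {N : ℕ} {g : G} {F : Subgroup G} (hF : IsFan N F)
    (hg : F ≤ centralizer ({g} : Set G)) : F ≤ fanOf N g := le_sSup ⟨hF, hg⟩

theorem fanOf_le (N : ℕ) (g : G) : fanOf N g ≤ centralizer ({g} : Set G) :=
  sSup_le fun _ hF => hF.2

theorem center_le_fanOf (N : ℕ) (g : G) : center G ≤ fanOf N g :=
  le_fanOf (isFan_center N) (center_le_centralizer _)

theorem fanOf_conj_le (N : ℕ) (g h : G) :
    (fanOf N g).map (MulAut.conj h).toMonoidHom ≤ fanOf N (h * g * h⁻¹) := by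
  rw [map_le_iff_le_comap]
  refine sSup_le fun F hF => ?_
  rw [← map_le_iff_le_comap]
  refine le_fanOf (hF.1.conj h) fun x hx => ?_
  have := hF.2 (mem_map_conj.mp hx)
  rw [mem_centralizer_singleton_iff] at this ⊢
  calc x * (h * g * h⁻¹) = h * (h⁻¹ * x * h * g) * h⁻¹ := by group
    _ = h * (g * (h⁻¹ * x * h)) * h⁻¹ := by rw [this]
    _ = _ := by group

theorem mem_fanOf_conj {N : ℕ} {g h x : G} :
    x ∈ fanOf N (h * g * h⁻¹) ↔ h⁻¹ * x * h ∈ fanOf N g := by
  constructor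
  · intro hx
    have := fanOf_conj_le N (h * g * h⁻¹) h⁻¹ (mem_map_conj.mpr
      (show h⁻¹⁻¹ * (h⁻¹ * x * h) * h⁻¹ ∈ _ by simpa [mul_assoc] using hx))
    simpa [mul_assoc] using this
  · intro hx
    exact fanOf_conj_le N g h (mem_map_conj.mpr hx)

end CfsgLib.BF
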