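import Mathlib
import Cfsg.Agent.Lib.BF.Fan

/-! Jordan's original counting argument, part 2: the class count. -/

set_option autoImplicit false
set_option linter.unusedSectionVars false

namespace CfsgLib.BF

open Subgroup

variable {G : Type*} [Group G] [Finite G]

/-- Every non-central element has a centralizer with an abelian subgroup of index at most `N`. -/
def CentAb (G : Type*) [Group G] (N : ℕ) : Prop :=
  ∀ g : G, g ∉ center G → ∃ A : Subgroup G, A ≤ centralizer ({g} : Set G) ∧
    A ≤ centralizer (A : Set G) ∧ A.relIndex (centralizer ({g} : Set G)) ≤ N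

variable {N : ℕ}

theorem isFan_fanOf (hA : CentAb G N) {g : G} (hg : g ∉ center G) : IsFan N (fanOf N g) := by
  obtain ⟨A, -, hab, hi⟩ := hA g hg
  exact isFan_sSup _ (fun _ hF => hF.1) fun _ h₁ _ h₂ => fan_comm h₁.1 h₂.1 h₁.2 h₂.2 hi hab

theorem fanOf_mul (hA : CentAb G N) {g f : G} (hg : g ∉ center G) (hf : f ∈ fanOf N g)
    (hgf : g * f ∉ center G) : fanOf N (g * f) = fanOf N g := by
  have h1 := isFan_fanOf hA hg
  have h2 := isFan_fanOf hA hgf
  have hle : fanOf N g ≤ fanOf N (g * f) := by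
    refine le_fanOf h1 fun x hx => ?_
    have e1 := mem_centralizer_singleton_iff.mp (fanOf_le N g hx)
    have e2 := mem_centralizer_iff.mp (h1.1 hx) f hf
    rw [mem_centralizer_singleton_iff]
    calc x * (g * f) = g * (x * f) := by rw [← mul_assoc, e1, mul_assoc]
      _ = _ := by rw [← e2, mul_assoc]
  refine le_antisymm (le_fanOf h2 fun x hx => ?_) hle
  have e1 := mem_centralizer_singleton_iff.mp (fanOf_le N (g * f) hx)
  have e2 := mem_centralizer_iff.mp (h2.1 hx) f (hle hf)
  rw [mem_centralizer_singleton_iff]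
  calc x * g = x * (g * f) * f⁻¹ := by group
    _ = g * (f * x) * f⁻¹ := by rw [e1]; group
    _ = _ := by rw [e2]; group

theorem conj_not_mem_center {g : G} (h : G) (hg : g ∉ center G) : h * g * h⁻¹ ∉ center G := by
  intro H
  apply hg
  have := (inferInstance : (center G).Normal).conj_mem _ H h⁻¹
  simpa [mul_assoc] using this

/-- The block of `g`: the non-central elements of the coset `g F_g`. -/
def blk (N : ℕ) (g : G) : Set G := {x | x ∉ center G ∧ g⁻¹ * x ∈ fanOf N g}

theorem fanOf_blk (hA : CentAb G N) {g x : G} (hg : g ∉ center G) (hx : x ∈ blk N g) :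
    fanOf N x = fanOf N g := by
  have := fanOf_mul hA hg hx.2 (by simpa using hx.1)
  simpa using this

theorem blk_eq (hA : CentAb G N) {g x : G} (hg : g ∉ center G) (hx : x ∈ blk N g) :
    blk N x = blk N g := by
  ext y
  simp only [blk, Set.mem_ofPred_eq, fanOf_blk hA hg hx]
  refine and_congr_right fun _ => ⟨fun h => ?_, fun h => ?_⟩
  · simpa [mul_assoc] using mul_mem hx.2 h
  · simpa [mul_assoc] using mul_mem (inv_mem hx.2) h

theorem self_mem_blk {g : G} (hg : g ∉ center G) : g ∈ blk N g := ⟨hg, by simp⟩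

theorem conj_mem_blk {g x : G} (h : G) (hx : x ∈ blk N g) :
    h * x * h⁻¹ ∈ blk N (h * g * h⁻¹) :=
  ⟨conj_not_mem_center h hx.1, mem_fanOf_conj.mpr (by simpa [mul_assoc] using hx.2)⟩

/-- The stabilizer of the block of `g`. -/
def stab (hA : CentAb G N) {g : G} (hg : g ∉ center G) : Subgroup G where
  carrier := {h | h * g * h⁻¹ ∈ blk N g}
  one_mem' := by simpa using self_mem_blk hg
  mul_mem' := by
    intro a b ha hb
    have h1 := conj_mem_blk a hb
    rw [blk_eq hA hg ha] at h1
    simpa [mul_assoc] using h1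
  inv_mem' := by
    intro a ha
    have h1 : g ∈ blk N (a * g * a⁻¹) := by rw [blk_eq hA hg ha]; exact self_mem_blk hg
    have h2 := conj_mem_blk a⁻¹ h1
    simpa [mul_assoc] using h2

theorem mem_stab_iff (hA : CentAb G N) {g : G} (hg : g ∉ center G) {x : G} (hx : x ∈ blk N g)
    {h : G} : h ∈ stab hA hg ↔ h * x * h⁻¹ ∈ blk N g := by
  constructor
  · intro H
    have h1 := conj_mem_blk h hx
    rwa [blk_eq hA hg H] at h1
  · intro H
    have h1 : g ∈ blk N x := by rw [blk_eq hA hg hx]; exact self_mem_blk hg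
    have h2 := conj_mem_blk h h1
    rwa [blk_eq hA hg H] at h2

theorem cent_le_stab (hA : CentAb G N) {g : G} (hg : g ∉ center G) :
    centralizer ({g} : Set G) ≤ stab hA hg := by
  intro h hh
  have := mem_centralizer_singleton_iff.mp hh
  show h * g * h⁻¹ ∈ blk N g
  rw [this]
  simpa using self_mem_blk hg

/-- The union of the conjugates of the block of `g`. -/
def cls (N : ℕ) (g : G) : Set G := {y | ∃ h : G, ∃ x ∈ blk N g, y = h * x * h⁻¹}

theorem cls_eq (hA : CentAb G N) {g y : G} (hg : g ∉ center G) (hy : y ∈ cls N g) :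
    cls N y = cls N g := by
  obtain ⟨h, x, hx, rfl⟩ := hy
  ext z
  constructor
  · rintro ⟨k, w, hw, rfl⟩
    have h1 := conj_mem_blk h⁻¹ hw
    have h2 : h⁻¹ * (h * x * h⁻¹) * h⁻¹⁻¹ = x := by group
    rw [h2, blk_eq hA hg hx] at h1
    exact ⟨k * h, _, h1, by group⟩
  · rintro ⟨k, w, hw, rfl⟩
    rw [← blk_eq hA hg hx] at hw
    exact ⟨k * h⁻¹, _, conj_mem_blk h hw, by group⟩

theorem card_cls (hA : CentAb G N) {g : G} (hg : g ∉ center G) :
    (cls N g).ncard * Nat.card (stab hA hg) = Nat.card G * (blk N g).ncard := by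
  classical
  have := Fintype.ofFinite G
  have h1 := Finset.card_eq_sum_card_fiberwise (s := (Finset.univ : Finset G) ×ˢ (blk N g).toFinset)
    (t := (cls N g).toFinset) (f := fun p => p.1 * p.2 * p.1⁻¹) (by
      intro p hp
      simp only [Finset.coe_product, Finset.coe_univ, Set.coe_toFinset, Set.mem_prod] at hp
      simp only [Set.coe_toFinset]
      exact ⟨p.1, p.2, hp.2, rfl⟩)
  rw [Finset.card_product, Finset.card_univ, Finset.sum_const_nat (m := Nat.card (stab hA hg))] at h1
  · rw [Set.ncard_eq_toFinset_card', Set.ncard_eq_toFinset_card', Nat.card_eq_fintype_card (α := G), h1]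
  intro y hy
  obtain ⟨h₀, x₀, hx₀, rfl⟩ := Set.mem_toFinset.mp hy
  rw [← Set.ncard_coe_finset, ← Nat.card_coe_set_eq]
  symm
  refine Nat.card_eq_of_bijective (fun s => ⟨(h₀ * s.1, s.1⁻¹ * x₀ * s.1), ?_⟩) ⟨?_, ?_⟩
  · simp only [Finset.coe_filter, Finset.mem_product, Finset.mem_univ, Set.mem_toFinset, true_and,
      Set.mem_ofPred_eq]
    refine ⟨by simpa using (mem_stab_iff hA hg hx₀).mp (inv_mem s.2), by group⟩
  · intro s t hst
    have := congrArg (fun p => p.1.1) hst
    exact Subtype.ext (mul_left_cancel this)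
  · rintro ⟨⟨h, x⟩, hp⟩
    simp only [Finset.coe_filter, Finset.mem_product, Finset.mem_univ, Set.mem_toFinset, true_and,
      Set.mem_ofPred_eq] at hp
    have e : (h₀⁻¹ * h) * x * (h₀⁻¹ * h)⁻¹ = x₀ := by
      calc _ = h₀⁻¹ * (h * x * h⁻¹) * h₀ := by group
        _ = _ := by rw [hp.2]; group
    refine ⟨⟨h₀⁻¹ * h, (mem_stab_iff hA hg hp.1).mpr (e ▸ hx₀)⟩, Subtype.ext (Prod.ext ?_ ?_)⟩
    · simp
    · simp only
      rw [← e]; group

theorem card_blk_of_not_mem {g : G} (hg : g ∉ fanOf N g) :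
    (blk N g).ncard = Nat.card (fanOf N g) := by
  rw [← Nat.card_coe_set_eq]
  symm
  refine Nat.card_eq_of_bijective (fun f => ⟨g * f.1, fun H => hg ?_, by simp⟩) ⟨?_, ?_⟩
  · simpa using mul_mem (center_le_fanOf N g H) (inv_mem f.2)
  · intro s t hst
    exact Subtype.ext (mul_left_cancel (congrArg Subtype.val hst))
  · rintro ⟨x, hx⟩
    exact ⟨⟨g⁻¹ * x, hx.2⟩, Subtype.ext (by simp)⟩

theorem card_blk_of_mem {g : G} (hg : g ∈ fanOf N g) :
    (blk N g).ncard + Nat.card (center G) = Nat.card (fanOf N g) := by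
  have h1 : blk N g = (fanOf N g : Set G) \ (center G : Set G) := by
    ext x
    simp only [blk, Set.mem_ofPred_eq, Set.mem_sdiff, SetLike.mem_coe]
    rw [and_comm, mul_mem_cancel_left (inv_mem hg)]
  rw [h1]
  exact Set.ncard_sdiff_add_ncard_of_subset (SetLike.coe_subset_coe.mpr (center_le_fanOf N g))

theorem relIndex_cent_stab (hA : CentAb G N) {g : G} (hg : g ∉ center G) {T : ℕ}
    (hT : {f : G | f ∈ fanOf N g ∧ IsConj g (g * f)}.ncard ≤ T) :
    (centralizer ({g} : Set G)).relIndex (stab hA hg) ≤ T := by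
  refine le_trans ?_ hT
  rw [relIndex, index, ← Nat.card_coe_set_eq]
  let φ : stab hA hg → {f : G | f ∈ fanOf N g ∧ IsConj g (g * f)} := fun s =>
    ⟨g⁻¹ * (s.1 * g * s.1⁻¹), s.2.2, by simpa using isConj_iff.mpr ⟨s.1, rfl⟩⟩
  have key : ∀ s t : stab hA hg, φ s = φ t ↔
      s⁻¹ * t ∈ (centralizer ({g} : Set G)).subgroupOf (stab hA hg) := by
    intro s t
    rw [mem_subgroupOf, mem_centralizer_singleton_iff, Subtype.ext_iff]
    simp only [φ, mul_right_inj, coe_mul, coe_inv]
    constructor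
    · intro H
      calc _ = s.1⁻¹ * (t.1 * g * t.1⁻¹) * t.1 := by group
        _ = _ := by rw [← H]; group
    · intro H
      calc _ = s.1 * (g * (s.1⁻¹ * t.1)) * t.1⁻¹ := by group
        _ = _ := by rw [← H]; group
  refine Nat.card_le_card_of_injective (Quotient.lift φ fun s t h =>
    (key s t).mpr (QuotientGroup.leftRel_apply.mp h)) ?_
  intro a b
  induction a using QuotientGroup.induction_on
  induction b using QuotientGroup.induction_on
  intro H
  exact QuotientGroup.eq.mpr ((key _ _).mp H)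

theorem relIndex_fan_stab {c T : ℕ} (hA : CentAb G N) (d : Subgroup G → ℕ) (hdc : ∀ A, d A ≤ c)
    (hd : ∀ A₁ A : Subgroup G, A₁ ≤ A → ¬ centralizer (A₁ : Set G) ≤ centralizer (A : Set G) →
      d A < d A₁) {g : G} (hg : g ∉ center G)
    (hT : {f : G | f ∈ fanOf N g ∧ IsConj g (g * f)}.ncard ≤ T) :
    (fanOf N g).relIndex (stab hA hg) ≤ N ^ (c + 1) * T := by
  obtain ⟨A, hAg, hab, hi⟩ := hA g hg
  have hN : 1 ≤ N := (Nat.pos_of_ne_zero (relIndex_ne_zero' _ _)).trans_le hi
  obtain ⟨F, hF, hFA, hFi⟩ := exists_fan d hdc hd hN c A (by omega) hab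
  rw [← relIndex_mul_relIndex _ _ _ (fanOf_le N g) (cent_le_stab hA hg)]
  refine Nat.mul_le_mul ?_ (relIndex_cent_stab hA hg hT)
  refine (relIndex_le_of_le_left (le_fanOf hF (hFA.trans hAg)) (relIndex_ne_zero' _ _)).trans ?_
  rw [← relIndex_mul_relIndex _ _ _ hFA hAg, pow_succ]
  exact Nat.mul_le_mul hFi hi

theorem fanOf_normal (hA : CentAb G N) {g : G} (hg : g ∉ center G) (h : stab hA hg = ⊤) :
    (fanOf N g).Normal := by
  refine ⟨fun x hx k => ?_⟩
  have hk : k ∈ stab hA hg := h ▸ mem_top k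
  rw [← fanOf_blk hA hg hk, mem_fanOf_conj]
  simpa [mul_assoc] using hx

theorem card_mul_relIndex' {A B : Subgroup G} (h : A ≤ B) : Nat.card A * A.relIndex B = Nat.card B := by
  rw [← (A.subgroupOf B).card_mul_index, Nat.card_congr (subgroupOfEquivOfLe h).toEquiv]
  rfl

universe u

theorem jordan_count (N c T : ℕ) : ∃ D : ℕ, ∀ (G : Type u) [Group G] [Finite G], CentAb G N →
    (∃ d : Subgroup G → ℕ, (∀ A, d A ≤ c) ∧ ∀ A₁ A : Subgroup G, A₁ ≤ A →
      ¬ centralizer (A₁ : Set G) ≤ centralizer (A : Set G) → d A < d A₁) →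
    (∀ (F : Subgroup G) (g : G), F ≤ centralizer (F : Set G) → F ≤ centralizer ({g} : Set G) →
      {f : G | f ∈ F ∧ IsConj g (g * f)}.ncard ≤ T) →
    ∃ A : Subgroup G, A.Normal ∧ A ≤ centralizer (A : Set G) ∧ A.index ≤ D := by
  set B := N ^ (c + 1) * T with hB
  obtain ⟨D, hD⟩ := egypt2 B (2 * B) (2 * B) (-1)
  refine ⟨max D B, fun G _ _ hA ⟨d, hdc, hd⟩ hT => ?_⟩
  classical
  have := Fintype.ofFinite G
  have hb : ∀ (g : G) (hg : g ∉ center G), (fanOf N g).relIndex (stab hA hg) ≤ B := fun g hg =>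
    relIndex_fan_stab hA d hdc hd hg (hT _ g (isFan_fanOf hA hg).1 (fanOf_le N g))
  by_cases hex : ∃ (g : G) (hg : g ∉ center G), stab hA hg = ⊤
  · obtain ⟨g, hg, hs⟩ := hex
    refine ⟨fanOf N g, fanOf_normal hA hg hs, (isFan_fanOf hA hg).1, le_max_of_le_right ?_⟩
    have := hb g hg
    rwa [hs, relIndex_top_right] at this
  push Not at hex
  refine ⟨center G, inferInstance, (isFan_center N).1, le_max_of_le_left ?_⟩
  -- the classes
  set X : Finset G := Finset.univ.filter fun g => g ∉ center G with hX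
  set I : Finset (Set G) := X.image (cls N) with hI
  have hrep : ∀ C : I, ∃ g : G, g ∉ center G ∧ cls N g = C := fun C => by
    obtain ⟨g, hg, e⟩ := Finset.mem_image.mp C.2
    exact ⟨g, (Finset.mem_filter.mp hg).2, e⟩
  choose r hr hrC using hrep
  have hsum : X.card = ∑ C : I, (cls N (r C)).ncard := by
    rw [Finset.card_eq_sum_card_image (cls N) X, ← hI, ← Finset.sum_coe_sort I]
    refine Finset.sum_congr rfl fun C _ => ?_
    rw [← Set.ncard_coe_finset]
    congr 1
    ext y
    simp only [hX, Finset.coe_filter, Finset.mem_filter, Finset.mem_univ, true_and, Set.mem_ofPred_eq]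
    constructor
    · rintro ⟨hy, e⟩
      rw [hrC C, ← e]
      exact ⟨1, y, self_mem_blk hy, by simp⟩
    · intro hy
      refine ⟨?_, by rw [cls_eq hA (hr C) hy, hrC C]⟩
      obtain ⟨h, x, hx, rfl⟩ := hy
      exact conj_not_mem_center h hx.1
  have hXc : X.card + Nat.card (center G) = Nat.card G := by
    have h1 := Finset.card_filter_add_card_filter_not (s := (Finset.univ : Finset G))
      (fun g => g ∉ center G)
    rw [Finset.card_univ, ← Nat.card_eq_fintype_card] at h1
    rw [← h1, hX]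
    congr 1
    rw [← Set.ncard_coe_finset, ← Nat.card_coe_set_eq]
    exact Nat.card_congr (Equiv.subtypeEquivRight (by simp))
  set b : I → ℕ := fun C => (fanOf N (r C)).relIndex (stab hA (hr C)) with hbdef
  set w : I → ℕ := fun C => (center G).relIndex (stab hA (hr C)) with hwdef
  have hn : (0 : ℚ) < Nat.card G := by exact_mod_cast Nat.card_pos
  have hz : (0 : ℚ) < Nat.card (center G) := by exact_mod_cast Nat.card_pos
  have hZS : ∀ C, center G ≤ stab hA (hr C) := fun C =>
    (center_le_centralizer _).trans (cent_le_stab hA (hr C))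
  have hterm : ∀ C : I, ((cls N (r C)).ncard : ℚ) / Nat.card G =
      1 / (b C : ℚ) - (if r C ∈ fanOf N (r C) then 1 / (w C : ℚ) else 0) ∧
      1 / (2 * (B : ℚ)) ≤ ((cls N (r C)).ncard : ℚ) / Nat.card G := by
    intro C
    have e1 := card_cls hA (hr C)
    have e2 := card_mul_relIndex' ((fanOf_le N (r C)).trans (cent_le_stab hA (hr C)))
    have e3 := card_mul_relIndex' (hZS C)
    have hb0 : (0 : ℚ) < b C := by exact_mod_cast Nat.pos_of_ne_zero (relIndex_ne_zero' _ _)
    have hw0 : (0 : ℚ) < w C := by exact_mod_cast Nat.pos_of_ne_zero (relIndex_ne_zero' _ _)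
    have hbB : (b C : ℚ) ≤ B := by exact_mod_cast hb _ (hr C)
    have ha : (0 : ℚ) < Nat.card (fanOf N (r C)) := by exact_mod_cast Nat.card_pos
    have hs : (0 : ℚ) < Nat.card (stab hA (hr C)) := by exact_mod_cast Nat.card_pos
    have e1' : ((cls N (r C)).ncard : ℚ) / Nat.card G =
        ((blk N (r C)).ncard : ℚ) / Nat.card (stab hA (hr C)) := by
      rw [div_eq_div_iff hn.ne' hs.ne', mul_comm ((blk N (r C)).ncard : ℚ)]
      exact_mod_cast e1
    have e2' : (Nat.card (fanOf N (r C)) : ℚ) / Nat.card (stab hA (hr C)) = 1 / (b C : ℚ) := by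
      rw [div_eq_div_iff hs.ne' hb0.ne', one_mul]
      exact_mod_cast e2
    have e3' : (Nat.card (center G) : ℚ) / Nat.card (stab hA (hr C)) = 1 / (w C : ℚ) := by
      rw [div_eq_div_iff hs.ne' hw0.ne', one_mul]
      exact_mod_cast e3
    have h2B : 1 / (2 * (B : ℚ)) ≤ 1 / (2 * (b C : ℚ)) :=
      one_div_le_one_div_of_le (by positivity) (by linarith)
    have h2b : 1 / (2 * (b C : ℚ)) = 1 / 2 * (1 / (b C : ℚ)) := by field_simp
    have hb1 : 0 < 1 / (b C : ℚ) := by positivity
    rw [e1']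
    split_ifs with hm
    · have e4 : ((blk N (r C)).ncard : ℚ) = Nat.card (fanOf N (r C)) - Nat.card (center G) := by
        rw [eq_sub_iff_add_eq]; exact_mod_cast card_blk_of_mem hm
      have e5 : 2 * (Nat.card (center G) : ℚ) ≤ Nat.card (fanOf N (r C)) := by
        have h1 := card_mul_relIndex' (center_le_fanOf N (r C))
        have h2 : (center G).relIndex (fanOf N (r C)) ≠ 1 := fun H =>
          hr C (relIndex_eq_one.mp H hm)
        have h3 := relIndex_ne_zero' (center G) (fanOf N (r C))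
        have h4 : 2 * Nat.card (center G) ≤ Nat.card (fanOf N (r C)) := by
          rw [← h1, mul_comm]; exact Nat.mul_le_mul_left _ (by omega)
        exact_mod_cast h4
      rw [e4, sub_div, e2', e3']
      refine ⟨rfl, h2B.trans ?_⟩
      have : 2 * (1 / (w C : ℚ)) ≤ 1 / (b C : ℚ) := by
        rw [← e2', ← e3', ← mul_div_assoc]
        exact div_le_div_of_nonneg_right e5 hs.le
      linarith
    · rw [card_blk_of_not_mem hm, e2']
      exact ⟨by simp, by linarith⟩
  have hωz := (center G).card_mul_index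
  have hω0 : 0 < (center G).index := Nat.pos_of_ne_zero index_ne_zero_of_finite
  have hω : (Nat.card (center G) : ℚ) / Nat.card G = 1 / ((center G).index : ℚ) := by
    rw [div_eq_div_iff hn.ne' (by exact_mod_cast hω0.ne'), one_mul]
    exact_mod_cast hωz
  have htot : ∑ C : I, ((cls N (r C)).ncard : ℚ) / Nat.card G = 1 - 1 / ((center G).index : ℚ) := by
    rw [← Finset.sum_div, ← hω, eq_sub_iff_add_eq, ← add_div, div_eq_one_iff_eq hn.ne']
    exact_mod_cast hsum ▸ hXc
  have hcard : Fintype.card I ≤ 2 * B := by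
    rcases isEmpty_or_nonempty I with h | ⟨⟨C⟩⟩
    · simp
    have hB0 : (0 : ℚ) < B := by
      exact_mod_cast (Nat.pos_of_ne_zero (relIndex_ne_zero' _ _)).trans_le (hb _ (hr C))
    have h1 := Finset.card_nsmul_le_sum Finset.univ (fun C : I => ((cls N (r C)).ncard : ℚ) / Nat.card G)
      _ fun C _ => (hterm C).2
    rw [htot, Finset.card_univ, nsmul_eq_mul, mul_one_div, div_le_iff₀ (by positivity)] at h1
    have h2 : (0 : ℚ) ≤ 1 / ((center G).index : ℚ) := by positivity
    have h3 : (Fintype.card I : ℚ) ≤ 2 * B := by nlinarith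
    exact_mod_cast h3
  refine hD (Finset.univ.val.map b)
    ((Finset.univ.filter fun C : I => r C ∈ fanOf N (r C)).val.map w) _ (by rw [Multiset.card_map]; exact hcard)
    (fun x hx => ?_) ?_ hω0 (fun x hx => ?_) ?_
  · obtain ⟨C, -, rfl⟩ := Multiset.mem_map.mp hx
    exact hb _ (hr C)
  · rw [Multiset.card_map]
    exact (Finset.card_le_univ _).trans hcard
  · obtain ⟨C, -, rfl⟩ := Multiset.mem_map.mp hx
    refine ⟨Nat.pos_of_ne_zero (relIndex_ne_zero' _ _), ?_⟩
    have h1 := relIndex_mul_index (hZS C)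
    have h2 : (stab hA (hr C)).index ≠ 1 := fun H => hex _ (hr C) (index_eq_one.mp H)
    have h3 : (stab hA (hr C)).index ≠ 0 := index_ne_zero_of_finite
    have h4 := Nat.pos_of_ne_zero (relIndex_ne_zero' (center G) (stab hA (hr C)))
    rw [← h1]
    exact lt_mul_of_one_lt_right h4 (by omega)
  · rw [Multiset.map_map, Multiset.map_map, ← Finset.sum_eq_multiset_sum, ← Finset.sum_eq_multiset_sum,
      Finset.sum_filter]
    rw [Finset.sum_congr rfl fun C _ => (hterm C).1, Finset.sum_sub_distrib] at htot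
    simp only [Function.comp]
    linarith

end CfsgLib.BF
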