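import Mathlib
import Cfsg.Agent.Lib.BF.Count

/-! The Brauer-Feit theorem by Jordan's counting argument. -/

set_option autoImplicit false
set_option linter.unusedSectionVars false

namespace CfsgLib.BF

open Subgroup Module
open scoped commutatorElement

section Lin

variable {K V ι : Type*} [Field K] [IsAlgClosed K] [AddCommGroup V] [Module K V]
  [FiniteDimensional K V]

theorem exists_eigen_mem (f : End K V) (U : Submodule K V) (hU : U ≠ ⊥) (hf : ∀ v ∈ U, f v ∈ U) :
    ∃ c : K, ∃ v ∈ U, v ≠ 0 ∧ f v = c • v := by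
  have : Nontrivial U := Submodule.nontrivial_iff_ne_bot.mpr hU
  obtain ⟨c, hc⟩ := End.exists_eigenvalue (f.restrict hf)
  obtain ⟨v, hv⟩ := hc.exists_hasEigenvector
  refine ⟨c, v, v.2, fun h => hv.2 (Subtype.ext h), ?_⟩
  simpa using congrArg Subtype.val hv.apply_eq_smul

theorem exists_common_eigen (f : ι → End K V) (hc : ∀ i j, f i * f j = f j * f i) :
    ∀ (n : ℕ) (U : Submodule K V), finrank K U ≤ n → U ≠ ⊥ → (∀ i, ∀ v ∈ U, f i v ∈ U) →
      ∃ v ∈ U, v ≠ 0 ∧ ∀ i, ∃ c : K, f i v = c • v := by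
  intro n
  induction n with
  | zero =>
    intro U hn hU _
    exact absurd (Submodule.finrank_eq_zero.mp (Nat.le_zero.mp hn)) hU
  | succ n ih =>
    intro U hn hU hf
    by_cases h : ∀ i, ∃ c : K, ∀ v ∈ U, f i v = c • v
    · obtain ⟨v, hv, hv0⟩ := Submodule.exists_mem_ne_zero_of_ne_bot hU
      exact ⟨v, hv, hv0, fun i => (h i).imp fun c hc => hc v hv⟩
    push Not at h
    obtain ⟨i, hi⟩ := h
    obtain ⟨c, v, hv, hv0, hcv⟩ := exists_eigen_mem (f i) U hU (hf i)
    obtain ⟨w, hw, hcw⟩ := hi c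
    have hlt : U ⊓ (f i).eigenspace c < U := lt_of_le_of_ne inf_le_left fun H => hcw
      (End.mem_eigenspace_iff.mp (H.ge hw).2)
    obtain ⟨x, hx, hx0, hx'⟩ := ih (U ⊓ (f i).eigenspace c)
      (Nat.lt_succ_iff.mp ((Submodule.finrank_lt_finrank_of_lt hlt).trans_le hn))
      (fun H => hv0 ((Submodule.mem_bot K).mp (H.le ⟨hv, End.mem_eigenspace_iff.mpr hcv⟩)))
      (fun j y hy => ⟨hf j y hy.1, End.mem_eigenspace_iff.mpr (by
        rw [← End.mul_apply, hc, End.mul_apply, End.mem_eigenspace_iff.mp hy.2, map_smul])⟩)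
    exact ⟨x, hx.1, hx0, hx'⟩

/-- The weights of a family of endomorphisms. -/
def wts (f : ι → End K V) : Set (ι → K) := {χ | ∃ v : V, v ≠ 0 ∧ ∀ i, f i v = χ i • v}

theorem wts_card (f : ι → End K V) (hc : ∀ i j, f i * f j = f j * f i) :
    (wts f).Finite ∧ Nat.card (wts f) ≤ finrank K V := by
  have hind := End.independent_iInf_maxGenEigenspace_of_forall_mapsTo f fun i j φ =>
    (f j).mapsTo_maxGenEigenspace_of_comm (hc j i) φ
  have hsub : wts f ⊆ {χ | (⨅ i, (f i).maxGenEigenspace (χ i)) ≠ ⊥} := by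
    rintro χ ⟨v, hv0, hv⟩ H
    apply hv0
    rw [← Submodule.mem_bot K, ← H, Submodule.mem_iInf]
    intro i
    rw [End.mem_maxGenEigenspace]
    exact ⟨1, by simp [hv i]⟩
  have hfin := WellFoundedGT.finite_ne_bot_of_iSupIndep hind
  refine ⟨hfin.subset hsub, ?_⟩
  have : Fintype {χ : ι → K // (⨅ i, (f i).maxGenEigenspace (χ i)) ≠ ⊥} := hfin.fintype
  have h1 := hind.subtype_ne_bot_le_finrank
  rw [← Nat.card_eq_fintype_card] at h1
  exact (Nat.card_mono hfin hsub).trans h1

end Lin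

section Rep

variable {G K V : Type*} [Group G] [Finite G] [Field K] [IsAlgClosed K] [AddCommGroup V] [Module K V]
  [FiniteDimensional K V] {p : ℕ} [Fact p.Prime] [CharP K p]

theorem card_le_of_isPGroup {P : Subgroup G} (hP : IsPGroup p P) {m : ℕ}
    (hm : (Nat.card G).factorization p ≤ m) : Nat.card P ≤ p ^ m := by
  obtain ⟨a, ha⟩ := hP.exists_card_eq
  have h1 : p ^ a ∣ Nat.card G := ha ▸ card_subgroup_dvd_card P
  have h2 := ((Fact.out : p.Prime).pow_dvd_iff_le_factorization Nat.card_pos.ne').mp h1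
  rw [ha]
  exact Nat.pow_le_pow_right (Fact.out : p.Prime).pos (h2.trans hm)

theorem sum_pow_fixed (f : End K V) (v : V) (hv : f v = v) (k : ℕ) :
    (∑ i ∈ Finset.range k, f ^ i) v = (k : K) • v := by
  have : ∀ i : ℕ, (f ^ i) v = v := fun i => by
    induction i with
    | zero => simp
    | succ i ih => rw [pow_succ, End.mul_apply, hv, ih]
  simp [LinearMap.sum_apply, this, Nat.cast_smul_eq_nsmul]

theorem conj_count (ρ : Representation K G V) (hρ : Function.Injective ρ) {m n : ℕ}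
    (hm : (Nat.card G).factorization p ≤ m) (hn : finrank K V ≤ n) (F : Subgroup G) (g : G)
    (hF : F ≤ centralizer (F : Set G)) (hg : F ≤ centralizer ({g} : Set G)) :
    {f : G | f ∈ F ∧ IsConj g (g * f)}.ncard ≤ p ^ m * (n + 1) ^ n := by
  classical
  let φ : Option F → End K V := fun o => ρ (o.elim g Subtype.val)
  have hc : ∀ i j, φ i * φ j = φ j * φ i := by
    intro i j
    simp only [φ, ← map_mul]
    congr 1
    rcases i with _ | a <;> rcases j with _ | b
    · rfl
    · exact (mem_centralizer_singleton_iff.mp (hg b.2)).symm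
    · exact mem_centralizer_singleton_iff.mp (hg a.2)
    · exact mem_centralizer_iff.mp (hF b.2) a a.2
  obtain ⟨hfin, hcard⟩ := wts_card φ hc
  have hinv : ∀ (x : G) (v : V), ρ x⁻¹ (ρ x v) = v := fun x v => by
    rw [← End.mul_apply, ← map_mul]; simp
  have hinv' : ∀ (x : G) (v : V), ρ x (ρ x⁻¹ v) = v := fun x v => by
    rw [← End.mul_apply, ← map_mul]; simp
  -- the subgroup acting trivially on all weight vectors
  let F₁ : Subgroup G :=
    { carrier := {e | e ∈ F ∧ ∀ v : V, (∀ i, ∃ c : K, φ i v = c • v) → ρ e v = v}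
      one_mem' := ⟨one_mem F, fun v _ => by simp⟩
      mul_mem' := fun {a b} ha hb => ⟨mul_mem ha.1 hb.1, fun v hv => by
        rw [map_mul, End.mul_apply, hb.2 v hv, ha.2 v hv]⟩
      inv_mem' := fun {a} ha => ⟨inv_mem ha.1, fun v hv => by
        conv_lhs => rw [← ha.2 v hv]
        exact hinv a v⟩ }
  have hF₁ : IsPGroup p F₁ := by
    intro e
    obtain ⟨a, k, hk, hak⟩ := Nat.exists_eq_pow_mul_and_not_dvd (orderOf_pos e).ne' p
      (Fact.out : p.Prime).ne_one
    refine ⟨a, ?_⟩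
    set e' := e ^ p ^ a with he'
    have hek : (e' : G) ^ k = 1 := by
      rw [← coe_pow, he', ← pow_mul, ← hak, pow_orderOf_eq_one, coe_one]
    by_contra hne
    have hU : LinearMap.range (ρ e' - 1) ≠ ⊥ := fun H => hne (Subtype.ext (hρ (by
      rw [LinearMap.range_eq_bot, sub_eq_zero] at H
      rw [H]; simp)))
    obtain ⟨v, ⟨w, rfl⟩, hv0, hv⟩ := exists_common_eigen φ hc _ _ le_rfl hU (by
      rintro i _ ⟨w, rfl⟩
      refine ⟨φ i w, ?_⟩
      have := hc i (some ⟨e', e'.2.1⟩)
      rw [← End.mul_apply, ← End.mul_apply, mul_sub, sub_mul, mul_one, one_mul]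
      exact congrArg (fun t : End K V => (t - φ i) w) this.symm)
    have h1 := sum_pow_fixed _ _ (e'.2.2 _ hv) k
    rw [← End.mul_apply, geom_sum_mul, ← map_pow, hek, map_one, sub_self, LinearMap.zero_apply,
      eq_comm, smul_eq_zero] at h1
    rcases h1 with h1 | h1
    · exact hk ((CharP.cast_eq_zero_iff K p k).mp h1)
    · exact hv0 h1
  have hσ : ∀ f : G, ∀ χ : wts φ, ∃ ψ : wts φ, ∀ hf : f ∈ F, IsConj g (g * f) →
      χ.1 none * χ.1 (some ⟨f, hf⟩) = ψ.1 none := by
    intro f χ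
    by_cases H : f ∈ F ∧ IsConj g (g * f)
    swap
    · exact ⟨χ, fun h1 h2 => absurd ⟨h1, h2⟩ H⟩
    obtain ⟨v, hv0, hv⟩ := χ.2
    obtain ⟨h, hh⟩ := isConj_iff.mp H.2
    set μ := χ.1 none * χ.1 (some ⟨f, H.1⟩) with hμ
    have h1 : ρ (g * f) v = μ • v := by
      have e1 : ρ f v = _ := hv (some ⟨f, H.1⟩)
      have e2 : ρ g v = _ := hv none
      rw [map_mul, End.mul_apply, e1, map_smul, e2, smul_smul, mul_comm]
    have h2 : ρ g (ρ h⁻¹ v) = μ • ρ h⁻¹ v := by
      rw [← map_smul, ← h1, ← hh, map_mul, map_mul, End.mul_apply, End.mul_apply, hinv]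
    obtain ⟨x, hx, hx0, hx'⟩ := exists_common_eigen φ hc _ (End.eigenspace (ρ g) μ) le_rfl
      (fun H => hv0 (by
        have := (Submodule.mem_bot K).mp (H.le (End.mem_eigenspace_iff.mpr h2))
        rw [← hinv' h v, this, map_zero]))
      (fun j y hy => End.mem_eigenspace_iff.mpr (by
        have := hc none j
        rw [← End.mul_apply, show ρ g * φ j = φ j * ρ g from this, End.mul_apply,
          End.mem_eigenspace_iff.mp hy, map_smul]))
    choose ψ hψ using hx'
    refine ⟨⟨ψ, x, hx0, hψ⟩, fun _ _ => ?_⟩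
    have e3 : ρ g x = _ := hψ none
    rw [End.mem_eigenspace_iff.mp hx] at e3
    exact smul_left_injective K hx0 e3
  choose σ hσ using hσ
  have := Fintype.ofFinite G
  have := hfin.fintype
  have h1 := Finset.card_le_mul_card_image (f := σ)
    (Finset.univ.filter fun f : G => f ∈ F ∧ IsConj g (g * f)) (p ^ m) (by
      intro a ha
      obtain ⟨f₀, hf₀, rfl⟩ := Finset.mem_image.mp ha
      have hf₀' := (Finset.mem_filter.mp hf₀).2
      refine le_trans ?_ (card_le_of_isPGroup hF₁ hm)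
      rw [show Nat.card F₁ = _ from Nat.card_eq_card_toFinset (F₁ : Set G)]
      refine Finset.card_le_card_of_injOn (fun f => f₀⁻¹ * f) (fun f hf => ?_)
        fun a _ b _ h => mul_left_cancel h
      simp only [Finset.coe_filter, Finset.mem_filter, Finset.mem_univ, true_and,
        Set.mem_ofPred_eq] at hf
      simp only [Set.coe_toFinset, SetLike.mem_coe]
      refine ⟨mul_mem (inv_mem hf₀'.1) hf.1.1, fun v hv => ?_⟩
      by_cases hv0 : v = 0
      · simp [hv0]
      choose χ hχ using hv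
      have e1 := hσ f ⟨χ, v, hv0, hχ⟩ hf.1.1 hf.1.2
      have e2 := hσ f₀ ⟨χ, v, hv0, hχ⟩ hf₀'.1 hf₀'.2
      have hne : χ none ≠ 0 := fun H => hv0 (by
        have e3 : ρ g v = _ := hχ none
        rw [← hinv g v, e3, H, zero_smul, map_zero])
      have e4 : χ (some ⟨f, hf.1.1⟩) = χ (some ⟨f₀, hf₀'.1⟩) := mul_left_cancel₀ hne
        (e1.trans ((congrArg (fun t : wts φ → wts φ => (t ⟨χ, v, hv0, hχ⟩).1 none) hf.2).trans e2.symm))
      have e5 : ρ f v = _ := hχ (some ⟨f, hf.1.1⟩)
      have e6 : ρ f₀ v = _ := hχ (some ⟨f₀, hf₀'.1⟩)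
      rw [map_mul, End.mul_apply, e5, e4, ← e6, hinv])
  rw [← Set.ncard_coe_finset, Finset.coe_filter] at h1
  simp only [Finset.mem_univ, true_and] at h1
  refine h1.trans (Nat.mul_le_mul_left _ ((Finset.card_le_univ _).trans ?_))
  rw [Fintype.card_fun, ← Nat.card_eq_fintype_card]
  exact (Nat.pow_le_pow_left (by omega) _).trans (Nat.pow_le_pow_right (by omega) (by omega))

theorem exists_dim (ρ : Representation K G V) (hρ : Function.Injective ρ) {n : ℕ}
    (hn : finrank K V ≤ n) : ∃ d : Subgroup G → ℕ, (∀ A, d A ≤ n * n) ∧ ∀ A₁ A : Subgroup G, A₁ ≤ A →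
      ¬ centralizer (A₁ : Set G) ≤ centralizer (A : Set G) → d A < d A₁ := by
  refine ⟨fun A => finrank K (Subalgebra.toSubmodule (Subalgebra.centralizer K (ρ '' (A : Set G)))),
    fun A => (Submodule.finrank_le _).trans ?_, fun A₁ A h hn => ?_⟩
  · rw [finrank_linearMap]
    exact Nat.mul_le_mul hn hn
  refine Submodule.finrank_lt_finrank_of_lt (lt_of_le_of_ne
    (fun x hx => Subalgebra.centralizer_le K _ _ (Set.image_mono h) hx) fun H => hn fun x hx => ?_)
  have h1 : ρ x ∈ Subalgebra.toSubmodule (Subalgebra.centralizer K (ρ '' (A₁ : Set G))) := by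
    rw [Subalgebra.mem_toSubmodule, Subalgebra.mem_centralizer_iff]
    rintro _ ⟨a, ha, rfl⟩
    rw [← map_mul, ← map_mul, mem_centralizer_iff.mp hx a ha]
  rw [← H, Subalgebra.mem_toSubmodule, Subalgebra.mem_centralizer_iff] at h1
  rw [mem_centralizer_iff]
  intro a ha
  apply hρ
  rw [map_mul, map_mul]
  exact h1 _ ⟨a, ha, rfl⟩

theorem exists_abelian_of_commutator {H : Type*} [Group H] [Finite H] {m : ℕ}
    (hm : (Nat.card H).factorization p ≤ m) (h : IsPGroup p (_root_.commutator H)) :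
    ∃ B : Subgroup H, B ≤ centralizer (B : Set H) ∧ B.index ≤ p ^ m := by
  obtain ⟨P, hP⟩ := h.exists_le_sylow
  have hN : (P : Subgroup H).Normal := ⟨fun x hx g => by
    have h1 : ⁅g, x⁆ ∈ (P : Subgroup H) :=
      hP (commutator_mem_commutator (mem_top g) (mem_top x))
    have h2 := mul_mem h1 hx
    simpa [commutatorElement_def] using h2⟩
  obtain ⟨B, hB⟩ := exists_right_complement'_of_coprime P.card_coprime_index
  refine ⟨B, fun x hx => mem_centralizer_iff.mpr fun y hy => ?_, ?_⟩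
  · have h1 : ⁅y, x⁆ ∈ (P : Subgroup H) ⊓ B := ⟨hP (commutator_mem_commutator (mem_top y) (mem_top x)),
      B.mul_mem (B.mul_mem (B.mul_mem hy hx) (B.inv_mem hy)) (B.inv_mem hx)⟩
    rw [hB.disjoint.eq_bot, mem_bot] at h1
    exact commutatorElement_eq_one_iff_mul_comm.mp h1
  · rw [hB.index_eq_card]
    exact card_le_of_isPGroup P.isPGroup' hm

theorem fact_le_of_dvd {a b m : ℕ} (h : a ∣ b) (hb : b ≠ 0) (hm : b.factorization p ≤ m) :
    a.factorization p ≤ m :=
  ((Nat.factorization_le_iff_dvd (ne_zero_of_dvd_ne_zero hb h) hb).mpr h p).trans hm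

end Rep

universe u v

/-- The statement proved by induction on the degree. -/
def Claim (p m n N : ℕ) : Prop :=
  ∀ (G : Type u) [Group G] [Finite G] (K V : Type v) [Field K] [IsAlgClosed K] [CharP K p]
    [AddCommGroup V] [Module K V] [FiniteDimensional K V] (ρ : Representation K G V),
    Function.Injective ρ → finrank K V < n → (Nat.card G).factorization p ≤ m →
    ∃ A : Subgroup G, A.Normal ∧ A ≤ centralizer (A : Set G) ∧ A.index ≤ N

theorem Claim.nonfaithful {p m n N : ℕ} [Fact p.Prime] (h : Claim.{u, v} p m n N)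
    {G : Type u} [Group G] [Finite G] {K V : Type v} [Field K] [IsAlgClosed K] [CharP K p]
    [AddCommGroup V] [Module K V] [FiniteDimensional K V] (ρ : Representation K G V)
    (hn : finrank K V < n) (hm : (Nat.card G).factorization p ≤ m) :
    ∃ A : Subgroup G, A.index ≤ N ∧ ∀ a ∈ A, ∀ b ∈ A, ρ ⁅a, b⁆ = 1 := by
  let σ : Representation K (G ⧸ ρ.ker) V := QuotientGroup.lift ρ.ker ρ le_rfl
  have hσ : Function.Injective σ := by
    intro a b
    induction a using QuotientGroup.induction_on with | _ a => ?_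
    induction b using QuotientGroup.induction_on with | _ b => ?_
    intro H
    have H' : ρ a = ρ b := H
    rw [QuotientGroup.eq, MonoidHom.mem_ker, map_mul, ← H', ← map_mul]
    simp
  obtain ⟨A, -, hab, hi⟩ := h (G ⧸ ρ.ker) K V σ hσ hn
    (fact_le_of_dvd (card_quotient_dvd_card _) Nat.card_pos.ne' hm)
  refine ⟨A.comap (QuotientGroup.mk' ρ.ker), ?_, fun a ha b hb => ?_⟩
  · rwa [index_comap_of_surjective _ (QuotientGroup.mk'_surjective _)]
  · have h1 := commutatorElement_eq_one_iff_mul_comm.mpr (mem_centralizer_iff.mp (hab hb) _ ha)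
    rw [← map_commutatorElement, QuotientGroup.mk'_apply, QuotientGroup.eq_one_iff] at h1
    exact h1

theorem Claim.centAb {p m n N : ℕ} [Fact p.Prime] (h : Claim.{u, v} p m n N)
    {G : Type u} [Group G] [Finite G] {K V : Type v} [Field K] [IsAlgClosed K] [CharP K p]
    [AddCommGroup V] [Module K V] [FiniteDimensional K V] (ρ : Representation K G V)
    (hρ : Function.Injective ρ) (hn : finrank K V < n + 1) (hm : (Nat.card G).factorization p ≤ m) :
    CentAb G (p ^ m * (N * N)) := by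
  intro g hg
  have hns : ∀ c : K, End.eigenspace (ρ g) c ≠ ⊤ := fun c H => hg (mem_center_iff.mpr fun x => hρ (by
    have e : ∀ v, ρ g v = c • v := fun v => End.mem_eigenspace_iff.mp (H.ge Submodule.mem_top)
    ext v
    rw [map_mul, map_mul, End.mul_apply, End.mul_apply, e, e, map_smul]))
  have htop : (⊤ : Submodule K V) ≠ ⊥ := fun H => hns 0 (eq_top_iff.mpr (H.le.trans bot_le))
  obtain ⟨c, v, -, hv0, hv⟩ := exists_eigen_mem (ρ g) ⊤ htop fun _ _ => Submodule.mem_top
  set W := End.eigenspace (ρ g) c with hW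
  set H := centralizer ({g} : Set G) with hH
  let τ : Representation K H V := ρ.comp H.subtype
  have hinv : ∀ x : H, W ≤ W.comap (τ x) := fun x y hy => End.mem_eigenspace_iff.mpr (by
    have e := mem_centralizer_singleton_iff.mp x.2
    show ρ g (ρ x y) = c • ρ x y
    rw [← End.mul_apply, ← map_mul, ← e, map_mul, End.mul_apply, End.mem_eigenspace_iff.mp hy,
      map_smul])
  have hmH : (Nat.card H).factorization p ≤ m :=
    fact_le_of_dvd (card_subgroup_dvd_card H) Nat.card_pos.ne' hm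
  have hW1 : finrank K W < finrank K V := Submodule.finrank_lt (hns c)
  have hW0 : 0 < finrank K W := Nat.pos_of_ne_zero fun H0 => hv0
    ((Submodule.mem_bot K).mp ((Submodule.finrank_eq_zero.mp H0).le (End.mem_eigenspace_iff.mpr hv)))
  have hWq := W.finrank_quotient_add_finrank
  obtain ⟨A₁, hi₁, hA₁⟩ := h.nonfaithful (τ.subrepresentation W hinv) (by omega) hmH
  obtain ⟨A₂, hi₂, hA₂⟩ := h.nonfaithful (τ.quotient W hinv) (by omega) hmH
  set A := A₁ ⊓ A₂ with hA
  let U : Subgroup A := ((τ.subrepresentation W hinv).ker ⊓ (τ.quotient W hinv).ker).comap A.subtype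
  have hU : IsPGroup p U := by
    intro x
    refine ⟨1, Subtype.ext (Subtype.ext (Subtype.ext (hρ ?_)))⟩
    set y : G := x.1.1.1 with hy
    have e1 : ∀ w ∈ W, ρ y w = w := fun w hw =>
      congrArg Subtype.val (LinearMap.congr_fun (MonoidHom.mem_ker.mp x.2.1) ⟨w, hw⟩)
    have e2 : ∀ w, ρ y w - w ∈ W := fun w =>
      (Submodule.Quotient.eq W).mp (LinearMap.congr_fun (MonoidHom.mem_ker.mp x.2.2)
        (Submodule.Quotient.mk w))
    have e3 : ∀ (k : ℕ) (w : V), ρ (y ^ k) w = w + (k : K) • (ρ y w - w) := fun k w => by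
      induction k with
      | zero => simp
      | succ k ih =>
        rw [pow_succ', map_mul, End.mul_apply, ih, map_add, map_smul, e1 _ (e2 w), Nat.cast_succ,
          add_smul, one_smul]
        abel
    ext w
    simp only [pow_one, coe_pow, coe_one, map_one, End.one_apply]
    rw [e3, CharP.cast_eq_zero, zero_smul, add_zero]
  have hcU : _root_.commutator A ≤ U := by
    rw [_root_.commutator_def, commutator_le]
    intro a _ b _
    exact ⟨hA₁ a a.2.1 b b.2.1, hA₂ a a.2.2 b b.2.2⟩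
  obtain ⟨B, hB, hBi⟩ := exists_abelian_of_commutator (p := p)
    (fact_le_of_dvd (card_subgroup_dvd_card A) Nat.card_pos.ne' hmH) (hU.to_le hcU)
  refine ⟨(B.map A.subtype).map H.subtype, map_subtype_le _, ?_, ?_⟩
  · rintro _ ⟨_, ⟨a, ha, rfl⟩, rfl⟩
    rw [mem_centralizer_iff]
    rintro _ ⟨_, ⟨b, hb, rfl⟩, rfl⟩
    exact congrArg (fun t : A => (t.1.1 : G)) (mem_centralizer_iff.mp (hB ha) b hb)
  · rw [relIndex, subgroupOf, comap_map_eq_self_of_injective H.subtype_injective,
      index_map_subtype]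
    exact Nat.mul_le_mul hBi (index_inf_le.trans (Nat.mul_le_mul hi₁ hi₂))

theorem exists_claim (p m : ℕ) [Fact p.Prime] (n : ℕ) : ∃ N, Claim.{u, v} p m n N := by
  induction n with
  | zero => exact ⟨0, fun _ _ _ _ _ _ _ _ _ _ _ _ _ h => absurd h (Nat.not_lt_zero _)⟩
  | succ n ih =>
    obtain ⟨N, hN⟩ := ih
    obtain ⟨D, hD⟩ := jordan_count.{u} (p ^ m * (N * N)) (n * n) (p ^ m * (n + 1) ^ n)
    exact ⟨D, fun G _ _ K V _ _ _ _ _ _ ρ hρ hn hm => hD G (hN.centAb ρ hρ hn hm)
      (exists_dim ρ hρ (Nat.lt_succ_iff.mp hn))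
      fun F g hF hg => conj_count ρ hρ hm (Nat.lt_succ_iff.mp hn) F g hF hg⟩

end CfsgLib.BF
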