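import Mathlib
import Cfsg.Agent.Lib.BF.Rep
import Cfsg.Agent.Lib.Perm.PermModule
import Cfsg.Agent.Lib.PGroup.Basic

/-! Derived lengths of `p`-groups of permutations and of linear `p`-groups. -/

set_option autoImplicit false
set_option linter.unusedSectionVars false

namespace CfsgLib.BF

open Subgroup Module
open scoped commutatorElement

universe u v w

theorem der_succ_le {P : Type*} [Group P] {H : Subgroup P} (h : _root_.commutator P ≤ H) (k : ℕ) :
    derivedSeries P (k + 1) ≤ (derivedSeries H k).map H.subtype := by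
  induction k with
  | zero => rwa [derivedSeries_zero, ← MonoidHom.range_eq_map, range_subtype]
  | succ k ih =>
    rw [derivedSeries_succ, derivedSeries_succ H, map_commutator]
    exact commutator_mono ih ih

theorem der_ne_bot_of_injective {A B : Type*} [Group A] [Group B] {f : A →* B}
    (hf : Function.Injective f) {k : ℕ} (h : derivedSeries A k ≠ ⊥) : derivedSeries B k ≠ ⊥ :=
  fun H => h ((map_eq_bot_iff_of_injective _ hf).mp
    (le_bot_iff.mp ((map_derivedSeries_le_derivedSeries f k).trans H.le)))

theorem der_wreath {D Q : Type*} [Group D] [Group Q] [Nontrivial Q] {k : ℕ}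
    (h : derivedSeries D k ≠ ⊥) : derivedSeries (D ≀ᵣ Q) (k + 1) ≠ ⊥ := by
  classical
  let ι : (Q → D) →* D ≀ᵣ Q := MonoidHom.mk' (fun f => ⟨f, 1⟩) fun _ _ => by ext <;> simp
  have key : ∀ k, derivedSeries D k ≤
      ((derivedSeries (D ≀ᵣ Q) (k + 1)).comap ι).map (Pi.evalMonoidHom (fun _ : Q => D) 1) := by
    intro k
    induction k with
    | zero =>
      intro d _
      obtain ⟨c, hc⟩ := exists_ne (1 : Q)
      refine ⟨(⁅ι (Pi.mulSingle 1 d), RegularWreathProduct.inl c⁆ : D ≀ᵣ Q).left, ?_, ?_⟩
      · have := commutator_mem_commutator (mem_top (ι (Pi.mulSingle 1 d)))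
          (mem_top (RegularWreathProduct.inl c))
        have e : ι (⁅ι (Pi.mulSingle 1 d), RegularWreathProduct.inl c⁆ : D ≀ᵣ Q).left =
            ⁅ι (Pi.mulSingle 1 d), RegularWreathProduct.inl c⁆ := by
          ext <;> simp [ι, commutatorElement_def]
        exact mem_comap.mpr (e.symm ▸ this)
      · simp [ι, commutatorElement_def, hc]
    | succ k ih =>
      rw [derivedSeries_succ]
      refine (commutator_mono ih ih).trans ?_
      rw [← map_commutator]
      refine map_mono ?_
      rw [← map_le_iff_le_comap, map_commutator, derivedSeries_succ _ (k + 1)]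
      exact commutator_mono (map_comap_le _ _) (map_comap_le _ _)
  intro H
  apply h
  rw [eq_bot_iff]
  intro d hd
  obtain ⟨f, hf, rfl⟩ := key k hd
  rw [H] at hf
  have : f = 1 := congrArg RegularWreathProduct.left (mem_bot.mp hf)
  simp [this]

theorem der_iter (G : Type u) [Group G] [Nontrivial G] (k : ℕ) :
    derivedSeries (IteratedWreathProduct G (k + 1)) k ≠ ⊥ := by
  induction k with
  | zero =>
    obtain ⟨c, hc⟩ := exists_ne (1 : G)
    intro H
    have : (RegularWreathProduct.inl c : IteratedWreathProduct G 0 ≀ᵣ G) = 1 :=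
      mem_bot.mp (H.le (mem_top _))
    exact hc (congrArg RegularWreathProduct.right this)
  | succ k ih => exact der_wreath (D := IteratedWreathProduct G (k + 1)) (Q := G) ih

theorem isPGroup_iter {p : ℕ} [Fact p.Prime] (G : Type u) [Group G] [Finite G] (hG : Nat.card G = p)
    (k : ℕ) : IsPGroup p (IteratedWreathProduct G k) :=
  IsPGroup.of_card (by rw [IteratedWreathProduct.card, hG])

variable {p : ℕ} [hp : Fact p.Prime]

theorem der_le_of_index (k : ℕ) : ∀ (P : Type u) [Group P] [Finite P], IsPGroup p P →
    ∀ S : Subgroup P, S.index < p ^ (k + 1) → derivedSeries P k ≤ S := by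
  induction k with
  | zero =>
    intro P _ _ hP S hS
    obtain ⟨a, ha⟩ := hP.index S
    rw [ha, Nat.pow_lt_pow_iff_right hp.out.one_lt] at hS
    rw [show a = 0 by omega, pow_zero, index_eq_one] at ha
    exact ha.ge.trans' le_top
  | succ k ih =>
    intro P _ _ hP S hS
    rcases eq_top_or_exists_le_coatom S with h | ⟨H, hH, hSH⟩
    · exact h.ge.trans' le_top
    have hi := CfsgLib.PGroup.index_eq_prime_of_isCoatom hP hH
    have := hP.isNilpotent
    have : H.Normal := NormalizerCondition.normal_of_coatom H Group.normalizerCondition_of_isNilpotent hH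
    have hc : _root_.commutator P ≤ H := by
      have : IsCyclic (P ⧸ H) := isCyclic_of_prime_card hi
      exact Normal.quotient_commutative_iff_commutator_le.mp inferInstance
    refine (der_succ_le hc k).trans ((map_mono (ih H (hP.to_subgroup H) (S.subgroupOf H) ?_)).trans ?_)
    · have h1 := relIndex_mul_index hSH
      rw [← h1, hi, pow_succ] at hS
      exact lt_of_mul_lt_mul_right hS (Nat.zero_le _)
    · rw [subgroupOf_map_subtype]
      exact inf_le_left

theorem pow_apply_of_two_step {G K V : Type*} [Group G] [Field K] [AddCommGroup V] [Module K V]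
    (ρ : Representation K G V) {y : G} (h : ∀ w, ρ y (ρ y w - w) = ρ y w - w) (k : ℕ) (w : V) :
    ρ (y ^ k) w = w + (k : K) • (ρ y w - w) := by
  induction k with
  | zero => simp
  | succ k ih =>
    rw [pow_succ', map_mul, End.mul_apply, ih, map_add, map_smul, h w, Nat.cast_succ, add_smul,
      one_smul]
    abel

theorem sum_finrank_le {K V ι : Type*} [Field K] [AddCommGroup V] [Module K V] [FiniteDimensional K V]
    [Fintype ι] {N : ι → Submodule K V} (h : iSupIndep N) : ∑ i, finrank K (N i) ≤ finrank K V := by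
  classical
  rw [← finrank_directSum]
  exact LinearMap.finrank_le_finrank_of_injective (f := DirectSum.coeLinearMap N)
    h.dfinsupp_lsum_injective

theorem le_ker_of_quotient {P K V : Type*} [Group P] [Field K] [AddCommGroup V] [Module K V]
    (ρ : Representation K P V) {k : ℕ} (h : derivedSeries (P ⧸ ρ.ker) k = ⊥) :
    derivedSeries P k ≤ ρ.ker := by
  have := (map_derivedSeries_le_derivedSeries (QuotientGroup.mk' ρ.ker) k).trans h.le
  rwa [le_bot_iff, Subgroup.map_eq_bot_iff, QuotientGroup.ker_mk'] at this

theorem lift_injective {P K V : Type*} [Group P] [Field K] [AddCommGroup V] [Module K V]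
    (ρ : Representation K P V) : Function.Injective (QuotientGroup.lift ρ.ker ρ le_rfl) := by
  intro a b
  induction a using QuotientGroup.induction_on with | _ a => ?_
  induction b using QuotientGroup.induction_on with | _ b => ?_
  intro H
  have H' : ρ a = ρ b := H
  rw [QuotientGroup.eq, MonoidHom.mem_ker, map_mul, ← H', ← map_mul]
  simp

/-- Reduction to faithful irreducible representations in coprime characteristic. -/
theorem der_reduce {K : Type v} [Field K] (hK : (p : K) ≠ 0) (k n : ℕ)
    (h : ∀ (P : Type u) [Group P] [Finite P] (V : Type w) [AddCommGroup V] [Module K V]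
      [FiniteDimensional K V] [Nontrivial V] (ρ : Representation K P V), IsPGroup p P →
      finrank K V ≤ n → Function.Injective ρ →
      (∀ W : Submodule K V, (∀ g, ∀ v ∈ W, ρ g v ∈ W) → W = ⊥ ∨ W = ⊤) → derivedSeries P k = ⊥) :
    ∀ (d : ℕ) (P : Type u) [Group P] [Finite P] (V : Type w) [AddCommGroup V] [Module K V]
      [FiniteDimensional K V] (ρ : Representation K P V), IsPGroup p P →
      finrank K V ≤ n → finrank K V ≤ d → derivedSeries P k ≤ ρ.ker := by
  intro d
  induction d with
  | zero =>
    intro P _ _ V _ _ _ ρ _ _ hd g _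
    have : Subsingleton V := finrank_zero_iff.mp (Nat.le_zero.mp hd)
    exact Subsingleton.elim _ _
  | succ d ih =>
    intro P _ _ V _ _ _ ρ hP hn hd
    rcases subsingleton_or_nontrivial V with hV | hV
    · exact fun g _ => Subsingleton.elim _ _
    by_cases hirr : ∀ W : Submodule K V, (∀ g, ∀ v ∈ W, ρ g v ∈ W) → W = ⊥ ∨ W = ⊤
    · refine le_ker_of_quotient ρ (h _ V (QuotientGroup.lift ρ.ker ρ le_rfl) (hP.to_quotient _) hn
        (lift_injective ρ) fun W hW => hirr W fun g => hW g)
    push Not at hirr
    obtain ⟨W, hW, hW0, hW1⟩ := hirr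
    have h1 : finrank K W < finrank K V := Submodule.finrank_lt hW1
    have h0 : 0 < finrank K W := Nat.pos_of_ne_zero fun H => hW0 (Submodule.finrank_eq_zero.mp H)
    have hq := W.finrank_quotient_add_finrank
    intro y hy
    have a1 := ih P W (ρ.subrepresentation W hW) hP (by omega) (by omega) hy
    have a2 := ih P (V ⧸ W) (ρ.quotient W hW) hP (by omega) (by omega) hy
    have e1 : ∀ w ∈ W, ρ y w = w := fun w hw =>
      congrArg Subtype.val (LinearMap.congr_fun (MonoidHom.mem_ker.mp a1) ⟨w, hw⟩)
    have e2 : ∀ w, ρ y w - w ∈ W := fun w =>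
      (Submodule.Quotient.eq W).mp (LinearMap.congr_fun (MonoidHom.mem_ker.mp a2)
        (Submodule.Quotient.mk w))
    obtain ⟨a, ha⟩ := hP y
    ext w
    have e3 := pow_apply_of_two_step ρ (fun w => e1 _ (e2 w)) (p ^ a) w
    rw [ha, map_one, End.one_apply, left_eq_add, smul_eq_zero, Nat.cast_pow] at e3
    exact sub_eq_zero.mp (e3.resolve_left (pow_ne_zero _ hK))

theorem der_lin {K : Type v} [Field K] [IsAlgClosed K] (hK : (p : K) ≠ 0) (k : ℕ) :
    ∀ (P : Type u) [Group P] [Finite P] (V : Type w) [AddCommGroup V] [Module K V]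
      [FiniteDimensional K V] (ρ : Representation K P V), IsPGroup p P →
      finrank K V < p ^ k → derivedSeries P k ≤ ρ.ker := by
  induction k with
  | zero =>
    intro P _ _ V _ _ _ ρ _ hd g _
    have : Subsingleton V := finrank_zero_iff.mp (by simpa using hd)
    exact Subsingleton.elim _ _
  | succ k ih =>
    intro P _ _ V _ _ _ ρ hP hd
    refine der_reduce hK (k + 1) (p ^ (k + 1) - 1) ?_ _ P V ρ hP (by omega) le_rfl
    clear hd hP ρ
    intro P _ _ V _ _ _ _ ρ hP hd hρ hirr
    rcases subsingleton_or_nontrivial (P ⧸ center P) with hZ | hZ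
    · refine le_bot_iff.mp ((derivedSeries_antitone P (Nat.le_add_left 1 k)).trans ?_)
      rw [derivedSeries_one, le_bot_iff, commutator_eq_bot_iff_center_eq_top]
      exact QuotientGroup.subgroup_eq_top_of_subsingleton _ hZ
    have := (hP.to_quotient (center P)).center_nontrivial
    obtain ⟨⟨x, hx⟩, hx1⟩ := exists_ne (1 : center (P ⧸ center P))
    induction x using QuotientGroup.induction_on with | _ x => ?_
    have hxZ : x ∉ center P := fun H => hx1 (Subtype.ext ((QuotientGroup.eq_one_iff x).mpr H))
    have hz : ∀ g : P, g⁻¹ * x * g * x⁻¹ ∈ center P := fun g => by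
      rw [← QuotientGroup.eq_one_iff]
      have := mem_center_iff.mp hx g
      simp only [QuotientGroup.mk_mul, QuotientGroup.mk_inv]
      rw [mul_assoc _ (x : P ⧸ center P), ← this]
      simp
    have hsc : ∀ z ∈ center P, ∃ c : K, ∀ v, ρ z v = c • v := by
      intro z hz
      obtain ⟨c, v, -, hv0, hv⟩ := exists_eigen_mem (ρ z) ⊤ top_ne_bot fun _ _ => Submodule.mem_top
      rcases hirr (End.eigenspace (ρ z) c) (fun g w hw => End.mem_eigenspace_iff.mpr (by
        rw [← End.mul_apply, ← map_mul, ← mem_center_iff.mp hz g, map_mul, End.mul_apply,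
          End.mem_eigenspace_iff.mp hw, map_smul])) with h | h
      · exact absurd ((Submodule.mem_bot K).mp (h.le (End.mem_eigenspace_iff.mpr hv))) hv0
      · exact ⟨c, fun v => End.mem_eigenspace_iff.mp (h.ge Submodule.mem_top)⟩
    have hmap : ∀ (g : P) (c : K), (∀ v, ρ (g⁻¹ * x * g * x⁻¹) v = c • v) → ∀ μ,
        ∀ v ∈ End.eigenspace (ρ x) μ, ρ g v ∈ End.eigenspace (ρ x) (c * μ) := by
      intro g c hc μ v hv
      rw [End.mem_eigenspace_iff] at hv ⊢
      rw [← End.mul_apply, ← map_mul, show x * g = g * (g⁻¹ * x * g * x⁻¹ * x) by group, map_mul,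
        map_mul, End.mul_apply, End.mul_apply, hc, hv, smul_smul, map_smul]
    have htop : (⨆ μ, End.eigenspace (ρ x) μ) = ⊤ := by
      refine (hirr _ fun g v hv => ?_).resolve_left fun H => ?_
      · obtain ⟨c, hc⟩ := hsc _ (hz g)
        induction hv using Submodule.iSup_induction' with
        | mem μ v hv => exact Submodule.mem_iSup_of_mem _ (hmap g c hc μ v hv)
        | zero => simp
        | add a b _ _ ha hb => rw [map_add]; exact add_mem ha hb
      · obtain ⟨c, v, -, hv0, hv⟩ := exists_eigen_mem (ρ x) ⊤ top_ne_bot fun _ _ => Submodule.mem_top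
        exact hv0 ((Submodule.mem_bot K).mp
          (H.le (Submodule.mem_iSup_of_mem c (End.mem_eigenspace_iff.mpr hv))))
    have hinj : ∀ g : P, Function.Injective (ρ g) := fun g a b h => by
      have := congrArg (ρ g⁻¹) h
      simpa [← End.mul_apply, ← map_mul] using this
    obtain ⟨g₀, hg₀⟩ : ∃ g : P, g⁻¹ * x * g * x⁻¹ ≠ 1 := by
      by_contra H
      push Not at H
      exact hxZ (mem_center_iff.mpr fun g => by
        calc g * x = g * (g⁻¹ * x * g * x⁻¹) * x := by rw [H g, mul_one]
          _ = _ := by group)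
    obtain ⟨c, hc⟩ := hsc _ (hz g₀)
    have hcp : p ≤ orderOf c := by
      obtain ⟨a, ha⟩ := hP (g₀⁻¹ * x * g₀ * x⁻¹)
      obtain ⟨v, hv⟩ := exists_ne (0 : V)
      have h1 : ∀ n : ℕ, ρ ((g₀⁻¹ * x * g₀ * x⁻¹) ^ n) v = c ^ n • v := fun n => by
        induction n with
        | zero => simp
        | succ n ih => rw [pow_succ', map_mul, End.mul_apply, ih, hc, smul_smul, pow_succ']
      have h2 : c ^ p ^ a = 1 := smul_left_injective K hv (by simp only [← h1, ha]; simp)
      obtain ⟨b, -, hb⟩ := (Nat.dvd_prime_pow hp.out).mp (orderOf_dvd_of_pow_eq_one h2)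
      rcases b with _ | b
      · rw [pow_zero, orderOf_eq_one_iff] at hb
        exact absurd (hρ (LinearMap.ext fun v => by rw [hc, hb]; simp)) hg₀
      · rw [hb]; exact Nat.le_self_pow b.succ_ne_zero p
    have hdim : ∀ μ, finrank K (End.eigenspace (ρ x) μ) < p ^ k := by
      intro μ
      by_cases hμ : μ = 0
      · have : End.eigenspace (ρ x) μ = ⊥ := by
          rw [eq_bot_iff]
          intro v hv
          exact hinj x (by simpa [hμ] using End.mem_eigenspace_iff.mp hv)
        rw [this, finrank_bot]
        exact pow_pos hp.out.pos k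
      have h1 : ∀ i : ℕ, finrank K (End.eigenspace (ρ x) μ) ≤
          finrank K (End.eigenspace (ρ x) (c ^ i * μ)) := fun i => by
        induction i with
        | zero => rw [pow_zero, one_mul]
        | succ i ih =>
          rw [pow_succ', mul_assoc]
          exact ih.trans (LinearMap.finrank_le_finrank_of_injective
            (f := (ρ g₀).restrict (hmap g₀ c hc _)) fun a b h =>
              Subtype.ext (hinj g₀ (congrArg Subtype.val h)))
      have h2 := sum_finrank_le ((End.eigenspaces_iSupIndep (ρ x)).comp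
        (f := fun i : Fin p => c ^ (i : ℕ) * μ) fun i j h => Fin.ext
          (pow_injOn_Iio_orderOf (i.2.trans_le hcp) (j.2.trans_le hcp) (mul_right_cancel₀ hμ h)))
      have h3 := Finset.card_nsmul_le_sum Finset.univ
        (fun i : Fin p => finrank K (End.eigenspace (ρ x) (c ^ (i : ℕ) * μ))) _ fun i _ => h1 i
      rw [Finset.card_fin, smul_eq_mul] at h3
      have h4 := pow_pos hp.out.pos (k + 1)
      have h5 : p * finrank K (End.eigenspace (ρ x) μ) < p * p ^ k := by
        rw [← pow_succ']
        exact (h3.trans (h2.trans hd)).trans_lt (by omega)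
      exact lt_of_mul_lt_mul_left h5 (Nat.zero_le _)
    let φ : P →* center P := MonoidHom.mk' (fun g => ⟨g * x * g⁻¹ * x⁻¹, by simpa using hz g⁻¹⟩)
      fun a b => Subtype.ext (by
        have := mem_center_iff.mp (hz b⁻¹)
        rw [inv_inv] at this
        show a * b * x * (a * b)⁻¹ * x⁻¹ = a * x * a⁻¹ * x⁻¹ * (b * x * b⁻¹ * x⁻¹)
        rw [this (a * x * a⁻¹ * x⁻¹), ← mul_assoc, ← mul_assoc, ← mul_assoc, ← this a]
        group)
    have hcH : _root_.commutator P ≤ centralizer ({x} : Set P) := fun g hg => by
      have h0 : _root_.commutator P ≤ φ.ker := by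
        rw [_root_.commutator_def, commutator_le]
        intro a _ b _
        rw [MonoidHom.mem_ker, map_commutatorElement, commutatorElement_eq_one_iff_mul_comm]
        exact Subtype.ext (mem_center_iff.mp (φ b).2 _)
      have := congrArg Subtype.val (MonoidHom.mem_ker.mp (h0 hg))
      rw [mem_centralizer_singleton_iff]
      calc g * x = g * x * g⁻¹ * x⁻¹ * (x * g) := by group
        _ = _ := by rw [show g * x * g⁻¹ * x⁻¹ = 1 from this, one_mul]
    refine le_bot_iff.mp ((der_succ_le hcH k).trans ?_)
    rintro _ ⟨y, hy, rfl⟩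
    refine hρ (LinearMap.ext fun v => ?_)
    have hv : v ∈ ⨆ μ, End.eigenspace (ρ x) μ := htop.ge Submodule.mem_top
    rw [map_one, End.one_apply]
    induction hv using Submodule.iSup_induction' with
    | mem μ v hv =>
      have := ih (centralizer ({x} : Set P)) (End.eigenspace (ρ x) μ)
        (Representation.subrepresentation (ρ.comp (centralizer ({x} : Set P)).subtype) _
          fun g w hw => by
            have := hmap g 1 (fun v => by
              rw [mul_assoc g.1⁻¹, ← mem_centralizer_singleton_iff.mp g.2]; simp) μ w hw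
            rwa [one_mul] at this) (hP.to_subgroup _) (hdim μ) hy
      exact congrArg Subtype.val (LinearMap.congr_fun (MonoidHom.mem_ker.mp this) ⟨v, hv⟩)
    | zero => simp
    | add a b _ _ ha hb => rw [map_add, ha, hb]

theorem der_field {E : Type v} [Field E] (hE : (p : E) ≠ 0) (k : ℕ) {P : Type u} [Group P] [Finite P]
    {V : Type w} [AddCommGroup V] [Module E V] [FiniteDimensional E V] (ρ : Representation E P V)
    (hP : IsPGroup p P) (hd : finrank E V < p ^ k) : derivedSeries P k ≤ ρ.ker := by
  let K := AlgebraicClosure E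
  let b := finBasis E V
  let f : End E V →* End K (Fin (finrank E V) → K) :=
    (Matrix.toLinAlgEquiv' (R := K) (n := Fin (finrank E V))).toMonoidHom.comp
      (((algebraMap E K).mapMatrix (m := Fin (finrank E V))).toMonoidHom.comp
        (LinearMap.toMatrixAlgEquiv b).toMonoidHom)
  have hf : Function.Injective f :=
    (Matrix.toLinAlgEquiv' (R := K) (n := Fin (finrank E V))).injective.comp
      ((Matrix.map_injective (algebraMap E K).injective).comp (LinearMap.toMatrixAlgEquiv b).injective)
  intro y hy
  have := der_lin (K := K) (fun H => hE ((algebraMap E K).injective (by simpa using H))) k P _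
    (f.comp ρ) hP (by simpa using hd) hy
  exact hf ((MonoidHom.mem_ker.mp this).trans (map_one f).symm)

theorem exists_invariant_of_le {K P V : Type*} [Field K] [CharP K p] [Group P] [Finite P]
    [AddCommGroup V] [Module K V] [FiniteDimensional K V] (ρ : Representation K P V)
    (hP : IsPGroup p P) (d : ℕ) (hd : d ≤ finrank K V) :
    ∃ W : Submodule K V, (∀ g, W ≤ W.comap (ρ g)) ∧ finrank K W = d := by
  induction d with
  | zero => exact ⟨⊥, fun _ => bot_le, finrank_bot K V⟩
  | succ d ih =>
    obtain ⟨W, hW, hWd⟩ := ih (by omega)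
    have hq := W.finrank_quotient_add_finrank
    have : Nontrivial (V ⧸ W) := finrank_pos_iff.mp (show 0 < finrank K (V ⧸ W) by omega)
    obtain ⟨v, -, hv0, hv⟩ := CfsgLib.Perm.exists_fixed_of_isPGroup hP (ρ.quotient W hW) ⊤
      (fun _ _ _ => Submodule.mem_top) top_ne_bot
    induction v using Submodule.Quotient.induction_on with | _ v => ?_
    have hvW : v ∉ W := fun H => hv0 ((Submodule.Quotient.mk_eq_zero W).mpr H)
    refine ⟨W ⊔ K ∙ v, fun g => sup_le (fun w hw => Submodule.mem_sup_left (hW g hw)) ?_, ?_⟩
    · rw [Submodule.span_singleton_le_iff_mem, Submodule.mem_comap, ← sub_add_cancel (ρ g v) v]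
      exact add_mem (Submodule.mem_sup_left ((Submodule.Quotient.eq W).mp (hv g)))
        (Submodule.mem_sup_right (Submodule.mem_span_singleton_self v))
    · have h1 := Submodule.finrank_sup_add_finrank_inf_eq W (K ∙ v)
      have hv1 : v ≠ 0 := fun H => hvW (H ▸ zero_mem W)
      rw [((Submodule.disjoint_span_singleton' hv1).mpr hvW).eq_bot,
        finrank_bot, finrank_span_singleton hv1] at h1
      omega

theorem der_charP {K : Type v} [Field K] [CharP K p] (k : ℕ) :
    ∀ {P : Type u} [Group P] [Finite P] (V : Type w) [AddCommGroup V] [Module K V]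
      [FiniteDimensional K V] (ρ : Representation K P V), IsPGroup p P →
      finrank K V ≤ 2 ^ k → derivedSeries P k ≤ ρ.ker := by
  induction k with
  | zero =>
    intro P _ _ V _ _ _ ρ hP hd g _
    rcases subsingleton_or_nontrivial V with hV | hV
    · exact Subsingleton.elim _ _
    obtain ⟨v, -, hv0, hv⟩ := CfsgLib.Perm.exists_fixed_of_isPGroup hP ρ ⊤
      (fun _ _ _ => Submodule.mem_top) top_ne_bot
    have h1 : finrank K V = 1 := le_antisymm hd finrank_pos
    ext w
    obtain ⟨c, rfl⟩ := (finrank_eq_one_iff_of_nonzero' v hv0).mp h1 w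
    simp [hv]
  | succ k ih =>
    intro P _ _ V _ _ _ ρ hP hd
    obtain ⟨W, hW, hWd⟩ := exists_invariant_of_le ρ hP (min (finrank K V) (2 ^ k)) (min_le_left _ _)
    have hq := W.finrank_quotient_add_finrank
    have a1 := ih W (ρ.subrepresentation W hW) hP (by omega)
    have a2 := ih (V ⧸ W) (ρ.quotient W hW) hP (by omega)
    have e1 : ∀ y ∈ derivedSeries P k, ∀ w ∈ W, ρ y w = w := fun y hy w hw =>
      congrArg Subtype.val (LinearMap.congr_fun (MonoidHom.mem_ker.mp (a1 hy)) ⟨w, hw⟩)
    have e2 : ∀ y ∈ derivedSeries P k, ∀ w, ρ y w - w ∈ W := fun y hy w =>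
      (Submodule.Quotient.eq W).mp (LinearMap.congr_fun (MonoidHom.mem_ker.mp (a2 hy))
        (Submodule.Quotient.mk w))
    rw [derivedSeries_succ, commutator_le]
    intro a ha b hb
    have e3 : ρ (a * b) = ρ (b * a) := by
      ext w
      have f1 := e1 a ha _ (e2 b hb w)
      have f2 := e1 b hb _ (e2 a ha w)
      rw [map_sub] at f1 f2
      rw [map_mul, map_mul, End.mul_apply, End.mul_apply, sub_eq_iff_eq_add.mp f1,
        sub_eq_iff_eq_add.mp f2]
      abel
    rw [MonoidHom.mem_ker, commutatorElement_def, mul_assoc, ← mul_inv_rev, map_mul, e3, ← map_mul]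
    simp

end CfsgLib.BF
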